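import Groth.Prelude.Def_SpSeq
import Groth.Agent.SubElem.Basic
import Mathlib.Algebra.Homology.ShortComplex.HomologicalComplex

/-!
Elementary facts on abstract spectral sequences and their abutments.
-/

namespace Groth.Agent.SpSeqLib

open CategoryTheory CategoryTheory.Limits

universe v u

variable {C : Type u} [Category.{v} C] [Abelian C] {r₀ : ℤ}

theorem page_next (r : ℤ) (pq : ℤ × ℤ) :
    (ComplexShape.up' ((r, 1 - r) : ℤ × ℤ)).next pq = pq + (r, 1 - r) :=
  ComplexShape.next_eq' _ (ComplexShape.up'_mk _ _ _ rfl)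

theorem page_prev (r : ℤ) (pq : ℤ × ℤ) :
    (ComplexShape.up' ((r, 1 - r) : ℤ × ℤ)).prev pq = pq - (r, 1 - r) :=
  ComplexShape.prev_eq' _ (ComplexShape.up'_mk _ _ _ (sub_add_cancel _ _))

variable (E : CohomologicalSpectralSequence C r₀)

/-- If both differentials at `pq` vanish the next page has the same object there. -/
theorem nonempty_iso_succ (r : ℤ) (hr : r₀ ≤ r) (pq : ℤ × ℤ)
    (h₁ : (E.page r hr).d (pq - (r, 1 - r)) pq = 0)
    (h₂ : (E.page r hr).d pq (pq + (r, 1 - r)) = 0) :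
    Nonempty ((E.page r hr).X pq ≅ (E.page (r + 1) (by lia)).X pq) := by
  have h1' : ((E.page r hr).sc pq).f = 0 := by
    change (E.page r hr).d _ pq = 0
    rw [page_prev]; exact h₁
  have h2' : ((E.page r hr).sc pq).g = 0 := by
    change (E.page r hr).d pq _ = 0
    rw [page_next]; exact h₂
  exact ⟨(ShortComplex.HomologyData.ofZeros _ h1' h2').left.homologyIso.symm ≪≫ E.iso r (r + 1) pq⟩

theorem isZero_succ (r : ℤ) (hr : r₀ ≤ r) (pq : ℤ × ℤ) (h : IsZero ((E.page r hr).X pq)) :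
    IsZero ((E.page (r + 1) (by lia)).X pq) := by
  refine IsZero.of_iso ?_ (E.iso r (r + 1) pq).symm
  exact ((E.page r hr).sc pq).exact_iff_isZero_homology.1
    (ShortComplex.exact_of_isZero_X₂ _ (by exact h))

theorem isZero_of_le (r : ℤ) (hr : r₀ ≤ r) (pq : ℤ × ℤ) (h : IsZero ((E.page r hr).X pq))
    (k : ℤ) (hk : r ≤ k) : IsZero ((E.page k (hr.trans hk)).X pq) := by
  induction k, hk using Int.leInduction with
  | base => exact h
  | succ k hk ih => exact isZero_succ E k (hr.trans hk) pq ih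

theorem nonempty_iso_of_le (pq : ℤ × ℤ) (r : ℤ) (h : SpSeq.StationaryAt E pq r)
    (k : ℤ) (hk : r ≤ k) :
    Nonempty ((E.page r h.1).X pq ≅ (E.page k (h.1.trans hk)).X pq) := by
  induction k, hk using Int.leInduction with
  | base => exact ⟨Iso.refl _⟩
  | succ k hk ih =>
    obtain ⟨e⟩ := ih
    obtain ⟨e'⟩ := nonempty_iso_succ E k (h.1.trans hk) pq (h.2 k (h.1.trans hk) hk).1
      (h.2 k (h.1.trans hk) hk).2
    exact ⟨e ≪≫ e'⟩

theorem stationary_mono {pq : ℤ × ℤ} {r k : ℤ} (h : SpSeq.StationaryAt E pq r) (hk : r ≤ k) :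
    SpSeq.StationaryAt E pq k :=
  ⟨h.1.trans hk, fun r' h₀ h' => h.2 r' h₀ (hk.trans h')⟩

variable {H : ℤ → C} (a : SpSeq.Abutment E H)

/-- The limit term at `pq`, read on any late enough page, is the graded piece. -/
theorem nonempty_iso_grPiece (pq : ℤ × ℤ) (r : ℤ) (h : SpSeq.StationaryAt E pq r) :
    Nonempty ((E.page r h.1).X pq ≅
      SpSeq.grPiece (a.fil (pq.1 + pq.2)) (a.anti (pq.1 + pq.2)) pq.1) := by
  obtain ⟨e⟩ := nonempty_iso_of_le E pq r h (max r (a.rk pq)) (le_max_left _ _)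
  obtain ⟨e'⟩ := nonempty_iso_of_le E pq (a.rk pq) (a.stat pq) (max r (a.rk pq)) (le_max_right _ _)
  exact ⟨e ≪≫ e'.symm ≪≫ a.β pq⟩

theorem isZero_grPiece (r : ℤ) (hr : r₀ ≤ r) (pq : ℤ × ℤ) (h : IsZero ((E.page r hr).X pq)) :
    IsZero (SpSeq.grPiece (a.fil (pq.1 + pq.2)) (a.anti (pq.1 + pq.2)) pq.1) := by
  obtain ⟨e⟩ := nonempty_iso_of_le E pq (a.rk pq) (a.stat pq) (max r (a.rk pq)) (le_max_right _ _)
  exact (isZero_of_le E r hr pq h _ (le_max_left _ _)).of_iso ((a.β pq).symm ≪≫ e)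

variable {X : C}

theorem subquot_isZero_iff (Z B : Subobject X) (h : B ≤ Z) :
    IsZero (SpSeq.subquot Z B h) ↔ B = Z := by
  constructor
  · intro hz
    have : Epi (B.ofLE Z h) := Preadditive.epi_of_isZero_cokernel _ hz
    have : IsIso (B.ofLE Z h) := isIso_of_mono_of_epi _
    exact Subobject.eq_of_comm (asIso (B.ofLE Z h)) (Subobject.ofLE_arrow h)
  · rintro rfl
    have : IsIso (Subobject.ofLE B B h) := by rw [Subobject.ofLE_refl]; infer_instance
    exact isZero_cokernel_of_epi _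

theorem grPiece_isZero_iff (F : ℤ → Subobject X) (hF : Antitone F) (p : ℤ) :
    IsZero (SpSeq.grPiece F hF p) ↔ F (p + 1) = F p :=
  subquot_isZero_iff _ _ _

theorem eq_of_grPiece_isZero (F : ℤ → Subobject X) (hF : Antitone F) (p q : ℤ) (hpq : p ≤ q)
    (h : ∀ s, p ≤ s → s < q → IsZero (SpSeq.grPiece F hF s)) : F q = F p := by
  induction q, hpq using Int.leInduction with
  | base => rfl
  | succ q hq ih =>
    exact ((grPiece_isZero_iff F hF q).1 (h q hq (lt_add_one q))).trans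
      (ih fun s hs hs' => h s hs (hs'.trans (lt_add_one q)))

end Groth.Agent.SpSeqLib
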