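import Groth.Agent.SpSeqLib.FilCx
import Mathlib.Data.Int.Interval
import Mathlib.Data.Set.Finite.Basic

/-!
Filtered complexes whose filtration is finite in each degree.
-/

namespace Groth.Agent.SpSeqLib

open CategoryTheory CategoryTheory.Limits SpSeq

universe v u

variable {A : Type u} [Category.{v} A] [Abelian A] (K : FilCx A)
  (hK : ∀ n : ℤ, (K.XFil n).IsFinite)

include hK

theorem exists_bounds (n : ℤ) : ∃ a b : ℤ, (∀ p, p ≤ a → K.filX p n = ⊤) ∧
    (∀ p, b ≤ p → K.filX p n = ⊥) := by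
  obtain ⟨⟨a, ha⟩, b, hb⟩ := hK n
  exact ⟨a, b, fun p hp => top_le_iff.1 (ha ▸ (K.XFil n).anti hp),
    fun p hp => le_bot_iff.1 (hb ▸ (K.XFil n).anti hp)⟩

theorem exists_stationary (p n : ℤ) : ∃ r₀ : ℕ, ∀ r, r₀ ≤ r →
    K.ZSub r p n = K.ZTop p n ∧ K.BSub r p n = K.BBot p n := by
  obtain ⟨-, b, -, hb⟩ := exists_bounds K hK (n + 1)
  obtain ⟨a, -, ha, -⟩ := exists_bounds K hK (n - 1)
  refine ⟨(b - p).toNat + (p + 1 - a).toNat, fun r hr => ⟨?_, ?_⟩⟩
  · exact ZSub_eq_ZTop K r p n (hb _ (by omega))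
  · exact BSub_eq_BBot K r p n (ha _ (by omega))

theorem hFil_finite (n : ℤ) : (K.HFil n).IsFinite := by
  obtain ⟨a, b, ha, hb⟩ := exists_bounds K hK n
  refine ⟨⟨a, top_le_iff.1 (SubElem.le_iff.2 fun W γ _ => ?_)⟩,
    b, le_bot_iff.1 (SubElem.le_iff.2 fun W γ hγ => ?_)⟩
  · obtain ⟨W', e, he, z, hz, eq⟩ :=
      HomologicalComplex.eq_liftCycles_homologyπ_up_to_refinements _ γ (n + 1)
        (CochainComplex.next ℤ n)
    exact (filH_factors_iff K a n γ).2
      ⟨W', e, he, z, hz, ha a le_rfl ▸ Subobject.top_factors z, eq⟩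
  · obtain ⟨W', e, he, z, hz, hzb, eq⟩ := (filH_factors_iff K b n γ).1 hγ
    rw [hb b le_rfl, SubElem.bot_factors_iff] at hzb
    subst hzb
    have h0 : K.obj.liftCycles (0 : W' ⟶ K.obj.X n) (n + 1) (CochainComplex.next ℤ n) hz = 0 := by
      rw [← cancel_mono (K.obj.iCycles n), HomologicalComplex.liftCycles_i, zero_comp]
    rw [h0, zero_comp, ← comp_zero (f := e), cancel_epi] at eq
    exact (SubElem.bot_factors_iff γ).2 eq

theorem isBounded_zero : K.IsBounded 0 := by
  intro n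
  obtain ⟨a, b, ha, hb⟩ := exists_bounds K hK n
  refine Set.Finite.subset (Set.finite_Icc a b) fun p hp => ?_
  by_contra hcon
  apply hp
  have he : K.filX p n = K.filX (p + 1) n := by
    rcases not_and_or.1 (by simpa [Set.mem_Icc] using hcon : ¬ (a ≤ p ∧ p ≤ b)) with h | h
    · rw [ha p (by omega), ha (p + 1) (by omega)]
    · rw [hb p (by omega), hb (p + 1) (by omega)]
  refine (subquot_isZero_iff _ _ _).2 (le_antisymm (K.BSub_le_ZSub 0 p n) ?_)
  exact (sup_le inf_le_left (K.filX_anti n (Int.le_add_one le_rfl))).trans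
    (he.le.trans le_sup_right)

end Groth.Agent.SpSeqLib

namespace Groth.Agent.SpSeqLib

open CategoryTheory CategoryTheory.Limits SpSeq

universe v₁ u₁

variable {A : Type u₁} [Category.{v₁} A] [Abelian A]

theorem fil_finite_separated_exhaustive (F : FilObj A) (h : F.IsFinite) :
    F.IsSeparated ∧ F.IsExhaustive := by
  obtain ⟨⟨a, ha⟩, b, hb⟩ := h
  exact ⟨⟨fun S _ => bot_le, fun S hS => hb ▸ hS ⟨b, rfl⟩⟩,
    ⟨fun S _ => le_top, fun S hS => ha ▸ hS ⟨a, rfl⟩⟩⟩

theorem fil_finite_complete (F : FilObj A) (h : F.IsFinite) : F.IsComplete := by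
  obtain ⟨-, b, hb⟩ := h
  have hiso : ∀ p, b ≤ p → IsIso (cokernel.π (F.fil p).arrow) := by
    intro p hp
    have : (F.fil p).arrow = 0 := (SubElem.bot_factors_iff _).1
      ((le_bot_iff.1 (hb ▸ F.anti hp : F.fil p ≤ ⊥)) ▸ SubElem.factors_arrow _)
    have : Mono (cokernel.π (F.fil p).arrow) :=
      Preadditive.mono_of_cancel_zero _ fun {T} g hg => by
        obtain ⟨s, hs⟩ := (SubElem.factors_iff_exists g).1
          (show (F.fil p).Factors g from (SubElem.factors_iff_exists g).2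
            ⟨Abelian.monoLift (F.fil p).arrow g hg, Abelian.monoLift_comp _ _ _⟩)
        rw [← hs, this, comp_zero]
    exact isIso_of_mono_of_epi _
  have hq : ∀ (p q : ℤ) (h : p ≤ q),
      cokernel.π (F.fil q).arrow ≫ F.quotMap h = cokernel.π (F.fil p).arrow :=
    fun p q h => cokernel.π_desc _ _ _
  intro T f hf
  have := hiso b le_rfl
  refine ⟨f b ≫ inv (cokernel.π (F.fil b).arrow), fun p => ?_⟩
  rcases le_total p b with h | h
  · rw [← hq p b h, Category.assoc, IsIso.inv_hom_id_assoc, hf p b h]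
  · have := hiso p h
    have : IsIso (F.quotMap h) := IsIso.of_isIso_fac_left (hq b p h)
    rw [← cancel_mono (F.quotMap h), Category.assoc, Category.assoc, hq b p h, IsIso.inv_hom_id,
      Category.comp_id, hf b p h]

end Groth.Agent.SpSeqLib
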