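import Groth.Agent.SpSeqLib.Basic
import Groth.Agent.SpSeqLib.FinFil
import Mathlib.AlgebraicTopology.ExtraDegeneracy
import Mathlib.Algebra.Homology.Opposite
import Mathlib.Algebra.Homology.Embedding.ExtendHomology
import Mathlib.Algebra.Homology.Embedding.CochainComplex
import Mathlib.Algebra.Homology.SingleHomology
import Mathlib.CategoryTheory.Abelian.Opposite

/-!
A first quadrant spectral sequence all of whose rows are resolutions: it degenerates at the second
page, where only the column `0` is non-zero.  The rows may come from augmented simplicial objects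
with an extra degeneracy in the opposite category.
-/

namespace Groth.Agent.SpSeqLib.SplitSS

open CategoryTheory CategoryTheory.Limits

universe v u

variable {C : Type u} [Category.{v} C] [Abelian C]

section Extra

open AlgebraicTopology Opposite Simplicial

variable {X : SimplicialObject.Augmented Cᵒᵖ}

/-- The cochain complex of an augmented simplicial object in the opposite category. -/
noncomputable def cochains (X : SimplicialObject.Augmented Cᵒᵖ) : CochainComplex C ℕ :=
  HomologicalComplex.unop (AlternatingFaceMapComplex.obj (SimplicialObject.Augmented.drop.obj X))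

theorem cochains_X (X : SimplicialObject.Augmented Cᵒᵖ) (n : ℕ) :
    (cochains X).X n = (X.left.obj (op ⦋n⦌)).unop := rfl

theorem exactAt_cochains_succ (ed : SimplicialObject.Augmented.ExtraDegeneracy X) (n : ℕ) :
    (cochains X).ExactAt (n + 1) := by
  refine HomologicalComplex.ExactAt.unop ?_
  rw [HomologicalComplex.exactAt_iff_isZero_homology]
  exact (HomologicalComplex.isZero_single_obj_homology _ 0 _ (n + 1) n.succ_ne_zero).of_iso
    (ed.homotopyEquiv.toHomologyIso (n + 1))

/-- The zeroth cohomology is the point of the augmentation. -/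
noncomputable def cochainsHomologyZero (ed : SimplicialObject.Augmented.ExtraDegeneracy X) :
    (cochains X).homology 0 ≅ X.right.unop :=
  HomologicalComplex.homologyUnop
      (AlternatingFaceMapComplex.obj (SimplicialObject.Augmented.drop.obj X)) 0 ≪≫
    (ed.homotopyEquiv.toHomologyIso 0 ≪≫
      HomologicalComplex.singleObjHomologySelfIso (ComplexShape.down ℕ) 0 X.right).symm.unop

end Extra

variable (K : ℕ → CochainComplex C ℕ)

/-- Row `q`, extended by zero. -/
noncomputable def row : ℤ → CochainComplex C ℤ
  | Int.ofNat q => (K q).extend ComplexShape.embeddingUpNat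
  | Int.negSucc _ => HomologicalComplex.zero

theorem row_natCast (q : ℕ) : row K (q : ℤ) = (K q).extend ComplexShape.embeddingUpNat := rfl

theorem isZero_row_of_neg {q : ℤ} (hq : q < 0) (p : ℤ) : IsZero ((row K q).X p) := by
  match q, hq with
  | Int.negSucc n, _ => exact isZero_zero C

theorem isZero_row_of_neg_left (q : ℤ) {p : ℤ} (hp : p < 0) : IsZero ((row K q).X p) := by
  match q with
  | Int.ofNat q => exact HomologicalComplex.isZero_extend_X _ _ _ fun i (hi : (i : ℤ) = p) => by omega
  | Int.negSucc n => exact isZero_zero C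

/-- The object `(p, q)` of the first page. -/
noncomputable def rowXIso (p q : ℕ) : (row K (q : ℤ)).X (p : ℤ) ≅ (K q).X p :=
  (K q).extendXIso ComplexShape.embeddingUpNat rfl

/-- The rows as a single complex for the shape of the first page. -/
noncomputable def page1 : HomologicalComplex C (ComplexShape.up' ((1, 1 - 1) : ℤ × ℤ)) where
  X pq := (row K pq.2).X pq.1
  d pq pq' :=
    if h : pq.2 = pq'.2 then (row K pq.2).d pq.1 pq'.1 ≫ eqToHom (by rw [h]) else 0
  shape := by
    rintro ⟨p, q⟩ ⟨p', q'⟩ h
    simp only [ComplexShape.up'_Rel, Prod.mk_add_mk, Prod.mk.injEq, sub_self, add_zero, not_and] at h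
    dsimp only
    split_ifs with hq
    · rw [(row K q).shape p p' (fun (he : p + 1 = p') => h he hq), zero_comp]
    · rfl
  d_comp_d' := by
    rintro ⟨p, q⟩ ⟨p', q'⟩ ⟨p'', q''⟩ - -
    dsimp only
    split_ifs with h h' <;> try simp
    subst h h'
    simp

/-- The homology of the first page is the homology of the rows. -/
noncomputable def page1HomologyIso (p q : ℤ) : (page1 K).homology (p, q) ≅ (row K q).homology p :=
  (page1 K).homologyIsoSc' (p - 1, q) (p, q) (p + 1, q)
      (ComplexShape.prev_eq' _ ((ComplexShape.up'_mk _ _ _ (by simp))))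
      (ComplexShape.next_eq' _ ((ComplexShape.up'_mk _ _ _ (by simp)))) ≪≫
    ShortComplex.homologyMapIso (ShortComplex.isoMk
      (S₁ := (page1 K).sc' (p - 1, q) (p, q) (p + 1, q)) (S₂ := (row K q).sc' (p - 1) p (p + 1))
      (Iso.refl _) (Iso.refl _) (Iso.refl _) (by simp [page1]; exact (Category.id_comp _).trans (Category.comp_id _).symm)
      (by simp [page1]; exact (Category.id_comp _).trans (Category.comp_id _).symm)) ≪≫
    ((row K q).homologyIsoSc' (p - 1) p (p + 1) (CochainComplex.prev ℤ p)
      (CochainComplex.next ℤ p)).symm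

/-- The pages from the second one on. -/
noncomputable def pageGe (r : ℤ) : HomologicalComplex C (ComplexShape.up' ((r, 1 - r) : ℤ × ℤ)) where
  X pq := (page1 K).homology pq
  d _ _ := 0

/-- The pages. -/
noncomputable def pages (r : ℤ) : HomologicalComplex C (ComplexShape.up' ((r, 1 - r) : ℤ × ℤ)) :=
  if h : r = 1 then h ▸ page1 K else pageGe K r

theorem pages_one : pages K 1 = page1 K := rfl

theorem pages_ne (r : ℤ) (h : r ≠ 1) : pages K r = pageGe K r := dif_neg h

/-- Homology of a page with zero differentials. -/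
noncomputable def pageGeHomologyIso (r : ℤ) (pq : ℤ × ℤ) :
    (pageGe K r).homology pq ≅ (page1 K).homology pq :=
  (ShortComplex.HomologyData.ofZeros ((pageGe K r).sc pq) rfl rfl).left.homologyIso

/-- The spectral sequence. -/
noncomputable def ss : CohomologicalSpectralSequence C 1 where
  page r _ := pages K r
  iso r r' pq hrr' hr :=
    if h : r = 1 then
      (eqToIso (by subst h; rfl) : (pages K r).homology pq ≅ (page1 K).homology pq) ≪≫ eqToIso (by rw [pages_ne K r' (by omega)]; rfl)
    else
      eqToIso (by rw [pages_ne K r h]) ≪≫ pageGeHomologyIso K r pq ≪≫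
        eqToIso (by rw [pages_ne K r' (by omega)]; rfl)

theorem ss_page_d (r : ℤ) (hr : 1 ≤ r) (h : r ≠ 1) (pq pq' : ℤ × ℤ) :
    ((ss K).page r hr).d pq pq' = 0 := by
  change (pages K r).d pq pq' = 0
  rw [pages_ne K r h]
  rfl

theorem isBounded_ss : SpSeq.IsBounded (ss K) := by
  intro n
  refine Set.Finite.subset (Set.finite_Icc 0 n) fun p hp => ?_
  by_contra hcon
  rw [Set.mem_Icc, not_and_or, not_le, not_le] at hcon
  refine hp ?_
  change IsZero ((row K (n - p)).X p)
  rcases hcon with h | h
  · exact isZero_row_of_neg_left K _ h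
  · exact isZero_row_of_neg K (by omega) p

variable {K} (A : ℤ → C) (hA : ∀ n, n < 0 → IsZero (A n))
  (hex : ∀ q n : ℕ, (K q).ExactAt (n + 1)) (e₀ : ∀ q : ℕ, (K q).homology 0 ≅ A q)

include hex in
theorem isZero_homology_of_ne_zero (p q : ℤ) (hp : p ≠ 0) : IsZero ((row K q).homology p) := by
  refine (HomologicalComplex.exactAt_iff_isZero_homology _ _).1 ?_
  match q, p, hp with
  | Int.ofNat q, Int.ofNat (p + 1), _ =>
    exact ((K q).extend_exactAt_iff ComplexShape.embeddingUpNat (j := p + 1) rfl).2 (hex q p)
  | Int.ofNat q, Int.negSucc p, _ =>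
    exact HomologicalComplex.extend_exactAt _ _ _ fun i (hi : (i : ℤ) = Int.negSucc p) => by omega
  | Int.negSucc q, p, _ =>
    exact ShortComplex.exact_of_isZero_X₂ _ (isZero_row_of_neg K (Int.negSucc_lt_zero q) p)
  | Int.ofNat q, 0, h => exact absurd rfl h

/-- The column `0` of the second page. -/
noncomputable def homologyColumnIso (q : ℕ) : (page1 K).homology (0, (q : ℤ)) ≅ A q :=
  page1HomologyIso K 0 q ≪≫
    (K q).extendHomologyIso ComplexShape.embeddingUpNat (j := 0) rfl ≪≫ e₀ q

/-- The filtration of the abutment: a single step. -/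
noncomputable def fil (n p : ℤ) : Subobject (A n) := if p ≤ 0 then ⊤ else ⊥

theorem fil_antitone (n : ℤ) : Antitone (fil A n) := by
  intro p p' h
  unfold fil
  split_ifs <;> first | exact le_rfl | exact le_top | exact bot_le | omega

theorem grPiece_fil_iso (n : ℤ) :
    Nonempty (SpSeq.grPiece (fil A n) (fil_antitone A n) 0 ≅ A n) := by
  have h0 : fil A n 0 = ⊤ := if_pos le_rfl
  have h1 : fil A n (0 + 1) = ⊥ := if_neg (by omega)
  obtain ⟨e⟩ := nonempty_iso_subquot_of_eq (fil_antitone A n (Int.le_add_one le_rfl))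
    (bot_le : (⊥ : Subobject (A n)) ≤ ⊤) h0 h1
  have : (⊥ : Subobject (A n)).ofLE ⊤ bot_le = 0 := by
    rw [← cancel_mono (⊤ : Subobject (A n)).arrow, Subobject.ofLE_arrow, zero_comp,
      Subobject.bot_arrow]
  exact ⟨e ≪≫ cokernelIsoOfEq this ≪≫ cokernelZeroIsoTarget ≪≫ asIso (⊤ : Subobject (A n)).arrow⟩

include hA hex e₀ in
theorem nonempty_page_two_iso (pq : ℤ × ℤ) : Nonempty ((page1 K).homology pq ≅
    SpSeq.grPiece (fil A (pq.1 + pq.2)) (fil_antitone A _) pq.1) := by
  obtain ⟨p, q⟩ := pq
  by_cases hp : p = 0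
  · subst hp
    obtain ⟨e⟩ := grPiece_fil_iso A (0 + q)
    refine ⟨?_ ≪≫ e.symm⟩
    match q with
    | Int.ofNat q => exact homologyColumnIso A e₀ q ≪≫ eqToIso (congrArg A (zero_add _).symm)
    | Int.negSucc q =>
      refine IsZero.iso ?_ (hA _ (by omega))
      exact ((HomologicalComplex.exactAt_iff_isZero_homology _ _).1
        (show (row K (Int.negSucc q)).ExactAt 0 from
          ShortComplex.exact_of_isZero_X₂ _ (isZero_row_of_neg K (Int.negSucc_lt_zero q) 0))).of_iso (page1HomologyIso K 0 _)
  · refine ⟨IsZero.iso ((isZero_homology_of_ne_zero hex p q hp).of_iso (page1HomologyIso K p q)) ?_⟩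
    refine (SpSeqLib.grPiece_isZero_iff _ _ p).2 ?_
    unfold fil
    rcases lt_or_gt_of_ne hp with h | h
    · rw [if_pos (by omega), if_pos (by omega)]
    · rw [if_neg (by omega), if_neg (by omega)]

include hA hex e₀ in
theorem nonempty_abutment :
    ∃ a : SpSeq.Abutment (ss K) A, ∀ n, a.IsFinite n := by
  refine ⟨{ fil := fil A, anti := fil_antitone A, rk := fun _ => 2,
            stat := fun pq => ⟨by omega, fun r h₀ h =>
              ⟨ss_page_d K r h₀ (by omega) _ _, ss_page_d K r h₀ (by omega) _ _⟩⟩,
            β := fun pq => eqToIso (show ((ss K).page 2 _).X pq = (page1 K).homology pq from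
              congrArg (fun P => HomologicalComplex.X P pq) (pages_ne K 2 (by omega))) ≪≫
              (nonempty_page_two_iso A hA hex e₀ pq).some }, fun n => ?_⟩
  exact ⟨⟨(0 : ℤ), (if_pos le_rfl : fil A n 0 = ⊤)⟩, (1 : ℤ), (if_neg (by decide) : fil A n 1 = ⊥)⟩

end Groth.Agent.SpSeqLib.SplitSS
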