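import Groth.Agent.SpSeqLib.TracePage
import Mathlib.LinearAlgebra.Eigenspace.Charpoly
import Mathlib.Analysis.Normed.Group.InfiniteSum
import Mathlib.Topology.Algebra.InfiniteSum.Real
import Mathlib.Analysis.Complex.Polynomial.Basic
import Mathlib.Analysis.Normed.Ring.InfiniteSum

/-!
Alternating sums of traces over the positions of a page.
-/

namespace Groth.Agent.SpSeqLib.Tr

open CategoryTheory CategoryTheory.Limits
open scoped Polynomial

universe u

theorem norm_tr_le {M : ModuleCat.{u} ℂ[X]} {A : ℝ} {D : ℕ} (hA : 0 ≤ A) (h : Bd M A D) :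
    ‖tr M‖ ≤ (D : ℝ) * A := by
  have := h.fin
  have hr : ∀ x ∈ (phi M).charpoly.roots, ‖x‖ ≤ A := fun x hx => h.eig x
    ((Module.End.hasEigenvalue_iff_isRoot_charpoly _ _).2 (Polynomial.isRoot_of_mem_roots hx))
  rw [tr, Module.End.trace_eq_sum_roots_charpoly_of_splits (IsAlgClosed.splits _)]
  calc ‖(phi M).charpoly.roots.sum‖ ≤ ((phi M).charpoly.roots.map (‖·‖)).sum :=
        norm_multiset_sum_le _
    _ ≤ ((phi M).charpoly.roots.map (fun _ => A)).sum := Multiset.sum_map_le_sum_map _ _ hr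
    _ = ((phi M).charpoly.roots.card : ℝ) * A := by simp
    _ ≤ (D : ℝ) * A := by
        refine mul_le_mul_of_nonneg_right (Nat.cast_le.2 (le_trans ?_ h.dim)) hA
        rw [← (phi M).charpoly_natDegree]
        exact Polynomial.card_roots' _

/-- The bounds `N, a, b, c, d` on a family indexed by positions. -/
structure FamBd (N : ℕ) (a c : ℕ → ℝ) (b d : ℕ → ℕ) (M : ℤ × ℤ → ModuleCat.{u} ℂ[X]) : Prop where
  neg : ∀ pq : ℤ × ℤ, pq.1 < 0 ∨ pq.2 < 0 → IsZero (M pq)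
  high : ∀ p q : ℕ, N < q → IsZero (M ((p : ℤ), (q : ℤ)))
  bd : ∀ p q : ℕ, Bd (M ((p : ℤ), (q : ℤ))) (a q * c p) (b q * d p)

/-- The inclusion of the first quadrant. -/
def quad : ℕ × ℕ → ℤ × ℤ := fun pq => ((pq.1 : ℤ), (pq.2 : ℤ))

theorem quad_injective : Function.Injective quad := by
  rintro ⟨p, q⟩ ⟨p', q'⟩ h
  simp only [quad, Prod.mk.injEq, Nat.cast_inj] at h
  exact Prod.ext h.1 h.2

theorem not_mem_range_quad {pq : ℤ × ℤ} (h : pq ∉ Set.range quad) : pq.1 < 0 ∨ pq.2 < 0 := by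
  by_contra hc
  simp only [not_or, not_lt] at hc
  exact h ⟨(pq.1.toNat, pq.2.toNat), Prod.ext (Int.toNat_of_nonneg hc.1) (Int.toNat_of_nonneg hc.2)⟩

variable {N : ℕ} {a c : ℕ → ℝ} {b d : ℕ → ℕ}

/-- The summable majorant. -/
noncomputable def major (N : ℕ) (a c : ℕ → ℝ) (b d : ℕ → ℕ) (pq : ℤ × ℤ) : ℝ :=
  if 0 ≤ pq.1 ∧ 0 ≤ pq.2 then
    c pq.1.toNat * (d pq.1.toNat : ℝ) *
      (if pq.2.toNat ≤ N then a pq.2.toNat * (b pq.2.toNat : ℝ) else 0)
  else 0

theorem summable_major (ha : ∀ q, 0 ≤ a q) (hc : ∀ p, 0 ≤ c p)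
    (hsum : Summable fun p : ℕ => c p * (d p : ℝ)) : Summable (major N a c b d) := by
  refine (quad_injective.summable_iff fun x hx => ?_).1 ?_
  · rw [major, if_neg]
    have := not_mem_range_quad hx
    omega
  have hs : Summable fun q : ℕ => if q ≤ N then a q * (b q : ℝ) else 0 :=
    summable_of_ne_finset_zero (s := Finset.range (N + 1)) (fun q hq => by
      rw [Finset.mem_range] at hq; simp [show ¬ q ≤ N by omega])
  have := Summable.mul_of_nonneg hsum hs (fun p => mul_nonneg (hc p) (Nat.cast_nonneg _))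
    (fun q => by dsimp only; split_ifs <;> [exact mul_nonneg (ha q) (Nat.cast_nonneg _); exact le_rfl])
  refine this.congr fun pq => ?_
  simp [major, quad]

theorem FamBd.norm_le {M : ℤ × ℤ → ModuleCat.{u} ℂ[X]} (h : FamBd N a c b d M)
    (ha : ∀ q, 0 ≤ a q) (hc : ∀ p, 0 ≤ c p) (pq : ℤ × ℤ) :
    ‖tr (M pq)‖ ≤ major N a c b d pq := by
  by_cases hq : pq ∈ Set.range quad
  · obtain ⟨⟨p, q⟩, rfl⟩ := hq
    simp only [major, quad, Int.natCast_nonneg, and_self, if_true, Int.toNat_natCast]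
    by_cases hN : q ≤ N
    · rw [if_pos hN]
      refine (norm_tr_le (mul_nonneg (ha q) (hc p)) (h.bd p q)).trans (le_of_eq ?_)
      push_cast
      ring
    · simp [if_neg hN, tr_of_isZero (h.high p q (not_le.1 hN))]
  · have h' := not_mem_range_quad hq
    rw [tr_of_isZero (h.neg pq h'), norm_zero, major, if_neg (by omega)]

/-- The sign `(-1)^(p+q)`. -/
noncomputable def sgn (pq : ℤ × ℤ) : ℂ := (-1) ^ (pq.1 + pq.2)

theorem norm_sgn_mul (pq : ℤ × ℤ) (z : ℂ) : ‖sgn pq * z‖ = ‖z‖ := by simp [sgn]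

theorem sgn_add (pq : ℤ × ℤ) (r : ℤ) : sgn (pq + (r, 1 - r)) = -sgn pq := by
  rw [sgn, sgn, show (pq + (r, 1 - r)).1 + (pq + (r, 1 - r)).2 = pq.1 + pq.2 + 1 by
    simp only [Prod.fst_add, Prod.snd_add]; ring, zpow_add₀ (by norm_num : (-1 : ℂ) ≠ 0)]
  simp

theorem FamBd.summable {M : ℤ × ℤ → ModuleCat.{u} ℂ[X]} (h : FamBd N a c b d M)
    (ha : ∀ q, 0 ≤ a q) (hc : ∀ p, 0 ≤ c p) (hsum : Summable fun p : ℕ => c p * (d p : ℝ)) :
    Summable fun pq => sgn pq * tr (M pq) :=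
  Summable.of_norm_bounded (summable_major ha hc hsum)
    fun pq => (norm_sgn_mul pq _).trans_le (h.norm_le ha hc pq)

theorem FamBd.tsum_quad {M : ℤ × ℤ → ModuleCat.{u} ℂ[X]} (h : FamBd N a c b d M) :
    ∑' pq : ℕ × ℕ, (-1 : ℂ) ^ (pq.1 + pq.2) * tr (M ((pq.1 : ℤ), (pq.2 : ℤ))) =
      ∑' pq : ℤ × ℤ, sgn pq * tr (M pq) := by
  rw [← quad_injective.tsum_eq (f := fun pq => sgn pq * tr (M pq))
    (Function.support_subset_iff'.2 fun x hx => by
      simp [tr_of_isZero (h.neg x (not_mem_range_quad hx))])]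
  refine tsum_congr fun pq => ?_
  simp only [quad, sgn, ← Nat.cast_add, zpow_natCast]

theorem isZero_of_bd_zero {M : ModuleCat.{u} ℂ[X]} (h : Bd M 0 0) : IsZero M := by
  have := h.fin
  have : Subsingleton (RC.obj M) :=
    Module.finrank_zero_iff.1 (Nat.le_zero.1 h.dim)
  exact (ModuleCat.isZero_iff_subsingleton (M := M)).2 this

variable (E : E₂CohomologicalSpectralSequence (ModuleCat.{u} ℂ[X])) (r : ℤ) (hr : 2 ≤ r)

theorem famBd_next (h : FamBd N a c b d (E.page r hr).X) :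
    FamBd N a c b d (E.page (r + 1) (Int.le_add_one hr)).X ∧
      FamBd N a c b d (bnd E r hr) :=
  ⟨⟨fun pq hpq => SpSeqLib.isZero_succ E r hr pq (h.neg pq hpq),
    fun p q hq => SpSeqLib.isZero_succ E r hr _ (h.high p q hq),
    fun p q => (page_facts E r hr _ (h.bd p q)).1⟩,
  ⟨fun pq hpq => isZero_of_bd_zero (page_facts E r hr pq (Bd.of_isZero (h.neg pq hpq) 0 0)).2.1,
    fun p q hq => isZero_of_bd_zero (page_facts E r hr _ (Bd.of_isZero (h.high p q hq) 0 0)).2.1,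
    fun p q => (page_facts E r hr _ (h.bd p q)).2.1⟩⟩

theorem tsum_next (h : FamBd N a c b d (E.page r hr).X) (ha : ∀ q, 0 ≤ a q) (hc : ∀ p, 0 ≤ c p)
    (hsum : Summable fun p : ℕ => c p * (d p : ℝ)) :
    ∑' pq, sgn pq * tr ((E.page (r + 1) (Int.le_add_one hr)).X pq) =
      ∑' pq, sgn pq * tr ((E.page r hr).X pq) := by
  obtain ⟨h', hB⟩ := famBd_next E r hr h
  have key : ∀ pq, sgn pq * tr ((E.page r hr).X pq) =
      sgn pq * tr ((E.page (r + 1) (Int.le_add_one hr)).X pq) +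
        (sgn pq * tr (bnd E r hr pq) -
          sgn (pq + (r, 1 - r)) * tr (bnd E r hr (pq + (r, 1 - r)))) := by
    intro pq
    rw [sgn_add]
    by_cases hq : pq ∈ Set.range quad
    · obtain ⟨⟨p, q⟩, rfl⟩ := hq
      rw [(page_facts E r hr _ (h.bd p q) : Bd ((E.page (r + 1) _).X (quad (p, q))) _ _ ∧ _).2.2]
      ring
    · rw [(page_facts E r hr _
        (Bd.of_isZero (h.neg pq (not_mem_range_quad hq)) 0 0)).2.2]
      ring
  have hBs := hB.summable ha hc hsum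
  have hBs' : Summable fun pq => sgn (pq + (r, 1 - r)) * tr (bnd E r hr (pq + (r, 1 - r))) :=
    hBs.comp_injective (i := fun pq => pq + (r, 1 - r)) (add_left_injective _)
  rw [tsum_congr key, (h'.summable ha hc hsum).tsum_add (hBs.sub hBs'), hBs.tsum_sub hBs']
  have := (Equiv.addRight ((r, 1 - r) : ℤ × ℤ)).tsum_eq fun pq => sgn pq * tr (bnd E r hr pq)
  simp only [Equiv.coe_addRight] at this
  rw [this, sub_self, add_zero]

end Groth.Agent.SpSeqLib.Tr
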