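import Groth.Prelude.Def_SpSeq
import Groth.Agent.SubElem.Basic
import Groth.Agent.SpSeqLib.Basic
import Mathlib.Algebra.Homology.Refinements

/-!
The terms of the spectral sequence of a filtered complex through generalized elements: the
differential between the terms, its kernel and image, and the graded pieces of the induced
filtration on cohomology.
-/

namespace Groth.Agent.SpSeqLib

open CategoryTheory CategoryTheory.Limits SpSeq

universe v u

variable {A : Type u} [Category.{v} A] [Abelian A]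

section Subquot

variable {X Y : A}

/-- The projection of `Z` onto the subquotient `Z / B`. -/
noncomputable def qπ (Z B : Subobject X) (h : B ≤ Z) : (Z : A) ⟶ subquot Z B h :=
  cokernel.π (B.ofLE Z h)

instance (Z B : Subobject X) (h : B ≤ Z) : Epi (qπ Z B h) :=
  coequalizer.π_epi

theorem comp_qπ_eq_zero_iff {Z B : Subobject X} (h : B ≤ Z) {W : A} (x : W ⟶ (Z : A)) :
    x ≫ qπ Z B h = 0 ↔ B.Factors (x ≫ Z.arrow) := by
  constructor
  · intro hx
    refine (SubElem.factors_iff_exists _).2 ⟨Abelian.monoLift (B.ofLE Z h) x hx, ?_⟩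
    rw [← Subobject.ofLE_arrow h, ← Category.assoc, Abelian.monoLift_comp]
  · intro hx
    obtain ⟨b, hb⟩ := (SubElem.factors_iff_exists _).1 hx
    have : x = b ≫ B.ofLE Z h := by
      rw [← cancel_mono Z.arrow, Category.assoc, Subobject.ofLE_arrow, hb]
    rw [this, Category.assoc]
    exact (congrArg (b ≫ ·) (cokernel.condition (B.ofLE Z h))).trans comp_zero

/-- The map from a subobject `U ≤ Z` to `Z / B`. -/
noncomputable def toSubquot (U Z B : Subobject X) (hU : U ≤ Z) (h : B ≤ Z) :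
    (U : A) ⟶ subquot Z B h :=
  U.ofLE Z hU ≫ qπ Z B h

theorem comp_toSubquot_eq_zero_iff {U Z B : Subobject X} (hU : U ≤ Z) (h : B ≤ Z) {W : A}
    (x : W ⟶ (U : A)) : x ≫ toSubquot U Z B hU h = 0 ↔ B.Factors (x ≫ U.arrow) := by
  rw [toSubquot, ← Category.assoc, comp_qπ_eq_zero_iff, Category.assoc, Subobject.ofLE_arrow]

theorem epi_toSubquot {U Z B : Subobject X} (hU : U ≤ Z) (h : B ≤ Z) (hUB : Z ≤ U ⊔ B) :
    Epi (toSubquot U Z B hU h) := by
  rw [epi_iff_surjective_up_to_refinements]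
  intro W y
  obtain ⟨W₁, e₁, he₁, z, hz⟩ := surjective_up_to_refinements_of_epi (qπ Z B h) y
  obtain ⟨W₂, e₂, he₂, a, b, ha, hb, eq⟩ := (SubElem.sup_factors_iff _ _ _).1
    (Subobject.factors_of_le (z ≫ Z.arrow) hUB (Subobject.factors_comp_arrow z))
  obtain ⟨a', rfl⟩ := (SubElem.factors_iff_exists _).1 ha
  refine ⟨W₂, e₂ ≫ e₁, epi_comp _ _, a', ?_⟩
  rw [Category.assoc, hz, toSubquot, ← sub_eq_zero, ← Category.assoc, ← Category.assoc,
    ← Preadditive.sub_comp, comp_qπ_eq_zero_iff]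
  convert hb using 1
  rw [Preadditive.sub_comp, Category.assoc, Category.assoc, Subobject.ofLE_arrow, eq,
    add_sub_cancel_left]

/-- Two epimorphisms with the same kernel have isomorphic targets. -/
theorem nonempty_iso_of_same_kernel {U P Q : A} (p : U ⟶ P) (q : U ⟶ Q) [Epi p] [Epi q]
    (h : ∀ {W : A} (x : W ⟶ U), x ≫ p = 0 ↔ x ≫ q = 0) : Nonempty (P ≅ Q) := by
  have h1 : kernel.ι p ≫ q = 0 := (h _).1 (kernel.condition p)
  have h2 : kernel.ι q ≫ p = 0 := (h _).2 (kernel.condition q)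
  refine ⟨⟨Abelian.epiDesc p q h1, Abelian.epiDesc q p h2, ?_, ?_⟩⟩
  · rw [← cancel_epi p, Abelian.comp_epiDesc_assoc, Abelian.comp_epiDesc, Category.comp_id]
  · rw [← cancel_epi q, Abelian.comp_epiDesc_assoc, Abelian.comp_epiDesc, Category.comp_id]

theorem nonempty_iso_subquot_of_eq {Z Z' B B' : Subobject X} (h : B ≤ Z) (h' : B' ≤ Z')
    (hZ : Z = Z') (hB : B = B') : Nonempty (subquot Z B h ≅ subquot Z' B' h') := by
  subst hZ hB; exact ⟨Iso.refl _⟩

end Subquot

section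

variable (K : FilCx A)

theorem filX_factors_iff (p n : ℤ) {W : A} (x : W ⟶ K.obj.X n) :
    (K.filX p n).Factors x ↔
      ∃ s : W ⟶ (K.fil p : CochainComplex A ℤ).X n, s ≫ (K.fil p).arrow.f n = x :=
  Subobject.mk_factors_iff _ _

theorem filX_map_d {p n : ℤ} (m : ℤ) {W : A} {x : W ⟶ K.obj.X n} (h : (K.filX p n).Factors x) :
    (K.filX p m).Factors (x ≫ K.obj.d n m) := by
  obtain ⟨s, rfl⟩ := (filX_factors_iff K p n x).1 h
  refine (filX_factors_iff K p m _).2 ⟨s ≫ (K.fil p : CochainComplex A ℤ).d n m, ?_⟩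
  rw [Category.assoc, ← (K.fil p).arrow.comm, Category.assoc]

theorem filX_le {p q : ℤ} (h : p ≤ q) (n : ℤ) : K.filX q n ≤ K.filX p n := K.filX_anti n h

theorem filX_mono {p q : ℤ} (h : p ≤ q) {n : ℤ} {W : A} {x : W ⟶ K.obj.X n}
    (hx : (K.filX q n).Factors x) : (K.filX p n).Factors x :=
  Subobject.factors_of_le x (filX_le K h n) hx

theorem filH_factors_iff (p n : ℤ) {W : A} (γ : W ⟶ K.obj.homology n) :
    (K.filH p n).Factors γ ↔ ∃ (W' : A) (e : W' ⟶ W) (_ : Epi e) (z : W' ⟶ K.obj.X n)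
      (hz : z ≫ K.obj.d n (n + 1) = 0), (K.filX p n).Factors z ∧
        e ≫ γ = K.obj.liftCycles z (n + 1) (CochainComplex.next ℤ n) hz ≫ K.obj.homologyπ n := by
  rw [FilCx.filH, SubElem.imageSubobject_factors_iff]
  constructor
  · rintro ⟨W₁, e₁, he₁, g, hg⟩
    obtain ⟨W₂, e₂, he₂, z, hz, eq⟩ :=
      HomologicalComplex.eq_liftCycles_homologyπ_up_to_refinements _ g (n + 1)
        (CochainComplex.next ℤ n)
    refine ⟨W₂, e₂ ≫ e₁, epi_comp _ _, z ≫ (K.fil p).arrow.f n,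
      by rw [Category.assoc, (K.fil p).arrow.comm, reassoc_of% hz, zero_comp],
      (filX_factors_iff K p n _).2 ⟨z, rfl⟩, ?_⟩
    rw [Category.assoc, hg, reassoc_of% eq, HomologicalComplex.homologyπ_naturality,
      HomologicalComplex.liftCycles_comp_cyclesMap_assoc]
  · rintro ⟨W', e, he, z, hz, hzp, eq⟩
    obtain ⟨s, rfl⟩ := (filX_factors_iff K p n z).1 hzp
    have hs : s ≫ (K.fil p : CochainComplex A ℤ).d n (n + 1) = 0 := by
      rw [← cancel_mono ((K.fil p).arrow.f (n + 1)), zero_comp, Category.assoc,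
        ← (K.fil p).arrow.comm, ← Category.assoc, hz]
    refine ⟨W', e, he, (K.fil p : CochainComplex A ℤ).liftCycles s (n + 1)
      (CochainComplex.next ℤ n) hs ≫ (K.fil p : CochainComplex A ℤ).homologyπ n, ?_⟩
    rw [eq, Category.assoc, HomologicalComplex.homologyπ_naturality,
      HomologicalComplex.liftCycles_comp_cyclesMap_assoc]

/-- `F^p K^n ∩ d⁻¹ F^{q} K^{n+1}`. -/
noncomputable def U (q p n : ℤ) : Subobject (K.obj.X n) :=
  K.filX p n ⊓ (Subobject.pullback (K.obj.d n (n + 1))).obj (K.filX q (n + 1))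

theorem U_factors_iff (q p n : ℤ) {W : A} (x : W ⟶ K.obj.X n) :
    (U K q p n).Factors x ↔
      (K.filX p n).Factors x ∧ (K.filX q (n + 1)).Factors (x ≫ K.obj.d n (n + 1)) := by
  rw [U, SubElem.inf_factors_iff, SubElem.pullback_factors_iff]

theorem ZSub_eq (r : ℕ) (p n : ℤ) : K.ZSub r p n = U K (p + r) p n ⊔ K.filX (p + 1) n := rfl

theorem U_le_ZSub (r : ℕ) (p n : ℤ) : U K (p + r) p n ≤ K.ZSub r p n := le_sup_left

theorem filX_succ_le_BSub (r : ℕ) (p n : ℤ) : K.filX (p + 1) n ≤ K.BSub r p n := le_sup_right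

theorem BSub_factors_iff (r : ℕ) (p n m q : ℤ) (hm : m + 1 = n) (hq : q + r = p + 1) {W : A}
    (x : W ⟶ K.obj.X n) :
    (K.BSub r p n).Factors x ↔ ∃ (W' : A) (e : W' ⟶ W) (_ : Epi e) (w : W' ⟶ K.obj.X m)
      (b : W' ⟶ K.obj.X n), (K.filX q m).Factors w ∧ (K.filX p n).Factors (w ≫ K.obj.d m n) ∧
        (K.filX (p + 1) n).Factors b ∧ e ≫ x = w ≫ K.obj.d m n + b := by
  obtain rfl : m = n - 1 := by omega
  obtain rfl : q = p - r + 1 := by omega
  rw [FilCx.BSub, SubElem.sup_factors_iff]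
  constructor
  · rintro ⟨W₁, e₁, he₁, a, b, ha, hb, eq⟩
    rw [SubElem.inf_factors_iff] at ha
    obtain ⟨W₂, e₂, he₂, w, hw, eq₂⟩ := (SubElem.image_arrow_comp_factors_iff _ _ _).1 ha.2
    refine ⟨W₂, e₂ ≫ e₁, epi_comp _ _, w, e₂ ≫ b, hw, eq₂ ▸ SubElem.comp_factors e₂ ha.1,
      SubElem.comp_factors e₂ hb, ?_⟩
    rw [Category.assoc, eq, Preadditive.comp_add, eq₂]
  · rintro ⟨W', e, he, w, b, hw, hdw, hb, eq⟩
    refine ⟨W', e, he, _, b, (SubElem.inf_factors_iff _).2 ⟨hdw, ?_⟩, hb, eq⟩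
    exact (SubElem.image_arrow_comp_factors_iff _ _ _).2
      ⟨W', 𝟙 _, inferInstance, w, hw, Category.id_comp _⟩

theorem BBot_factors_iff (p n m : ℤ) (hm : m + 1 = n) {W : A} (x : W ⟶ K.obj.X n) :
    (K.BBot p n).Factors x ↔ ∃ (W' : A) (e : W' ⟶ W) (_ : Epi e) (w : W' ⟶ K.obj.X m)
      (b : W' ⟶ K.obj.X n), (K.filX p n).Factors (w ≫ K.obj.d m n) ∧
        (K.filX (p + 1) n).Factors b ∧ e ≫ x = w ≫ K.obj.d m n + b := by
  obtain rfl : m = n - 1 := by omega
  rw [FilCx.BBot, SubElem.sup_factors_iff]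
  constructor
  · rintro ⟨W₁, e₁, he₁, a, b, ha, hb, eq⟩
    rw [SubElem.inf_factors_iff] at ha
    obtain ⟨W₂, e₂, he₂, w, eq₂⟩ := (SubElem.imageSubobject_factors_iff _ _).1 ha.2
    refine ⟨W₂, e₂ ≫ e₁, epi_comp _ _, w, e₂ ≫ b, eq₂ ▸ SubElem.comp_factors e₂ ha.1,
      SubElem.comp_factors e₂ hb, ?_⟩
    rw [Category.assoc, eq, Preadditive.comp_add, eq₂]
  · rintro ⟨W', e, he, w, b, hdw, hb, eq⟩
    refine ⟨W', e, he, _, b, (SubElem.inf_factors_iff _).2 ⟨hdw, ?_⟩, hb, eq⟩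
    exact imageSubobject_factors_comp_self _ w

theorem BBot_le_ZTop (p n : ℤ) : K.BBot p n ≤ K.ZTop p n :=
  sup_le_sup_right (inf_le_inf_left _ (le_kernelSubobject _ _
    (imageSubobject_arrow_comp_eq_zero (by simp)))) _

theorem BSub_le_BBot (r : ℕ) (p n : ℤ) : K.BSub r p n ≤ K.BBot p n :=
  sup_le_sup_right (inf_le_inf_left _ (imageSubobject_comp_le _ _)) _

theorem ZTop_le_ZSub (r : ℕ) (p n : ℤ) : K.ZTop p n ≤ K.ZSub r p n :=
  sup_le_sup_right (inf_le_inf_left _ (FilCx.kernelSubobject_le_pullback _ _)) _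

theorem ZSub_eq_ZTop (r : ℕ) (p n : ℤ) (h : K.filX (p + r) (n + 1) = ⊥) :
    K.ZSub r p n = K.ZTop p n := by
  refine le_antisymm (sup_le_sup_right (inf_le_inf_left _ (SubElem.le_iff.2 fun W x hx => ?_)) _)
    (ZTop_le_ZSub K r p n)
  rw [SubElem.pullback_factors_iff, h, SubElem.bot_factors_iff] at hx
  exact (SubElem.kernelSubobject_factors_iff _ _).2 hx

theorem BSub_eq_BBot (r : ℕ) (p n : ℤ) (h : K.filX (p - r + 1) (n - 1) = ⊤) :
    K.BSub r p n = K.BBot p n := by
  refine le_antisymm (BSub_le_BBot K r p n)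
    (sup_le_sup_right (inf_le_inf_left _ (SubElem.le_iff.2 fun W x hx => ?_)) _)
  obtain ⟨W', e, he, w, hw⟩ := (SubElem.imageSubobject_factors_iff _ _).1 hx
  exact (SubElem.image_arrow_comp_factors_iff _ _ _).2
    ⟨W', e, he, w, h ▸ Subobject.top_factors w, hw⟩

/-- The graded piece of `H^n(K)` is `ZTop / BBot`. -/
theorem nonempty_grPiece_iso (p n : ℤ) : Nonempty (grPiece (K.HFil n).fil (K.HFil n).anti p ≅
    subquot (K.ZTop p n) (K.BBot p n) (BBot_le_ZTop K p n)) := by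
  let V : Subobject (K.obj.X n) := K.filX p n ⊓ kernelSubobject (K.obj.d n (n + 1))
  have hVd : V.arrow ≫ K.obj.d n (n + 1) = 0 :=
    (SubElem.kernelSubobject_factors_iff _ _).1
      ((SubElem.inf_factors_iff _).1 (SubElem.factors_arrow V)).2
  let c : (V : A) ⟶ K.obj.homology n :=
    K.obj.liftCycles V.arrow (n + 1) (CochainComplex.next ℤ n) hVd ≫ K.obj.homologyπ n
  have hc : (K.filH p n).Factors c := (filH_factors_iff K p n c).2
    ⟨_, 𝟙 _, inferInstance, V.arrow, hVd,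
      ((SubElem.inf_factors_iff _).1 (SubElem.factors_arrow V)).1, Category.id_comp _⟩
  let h₁ : K.filH (p + 1) n ≤ K.filH p n := K.filH_anti n (Int.le_add_one le_rfl)
  let f₁ : (V : A) ⟶ subquot (K.filH p n) (K.filH (p + 1) n) h₁ :=
    (K.filH p n).factorThru c hc ≫ qπ _ _ h₁
  have hV : V ≤ K.ZTop p n := le_sup_left
  let f₂ : (V : A) ⟶ subquot (K.ZTop p n) (K.BBot p n) (BBot_le_ZTop K p n) :=
    toSubquot V _ _ hV _
  have : Epi f₂ := epi_toSubquot hV _ (sup_le_sup_left le_sup_right _)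
  have : Epi f₁ := by
    rw [epi_iff_surjective_up_to_refinements]
    intro W y
    obtain ⟨W₁, e₁, he₁, γ, hγ⟩ := surjective_up_to_refinements_of_epi (qπ _ _ h₁) y
    obtain ⟨W₂, e₂, he₂, z, hz, hzp, eq⟩ := (filH_factors_iff K p n (γ ≫ (K.filH p n).arrow)).1
      (Subobject.factors_comp_arrow γ)
    obtain ⟨v, hv⟩ := (SubElem.factors_iff_exists _).1 (show V.Factors z from
      (SubElem.inf_factors_iff _).2 ⟨hzp, (SubElem.kernelSubobject_factors_iff _ _).2 hz⟩)
    refine ⟨W₂, e₂ ≫ e₁, epi_comp _ _, v, ?_⟩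
    have : v ≫ (K.filH p n).factorThru c hc = e₂ ≫ γ := by
      rw [← cancel_mono (K.filH p n).arrow, Category.assoc, Subobject.factorThru_arrow,
        Category.assoc, eq]
      simp only [c, HomologicalComplex.comp_liftCycles_assoc, hv]
    rw [Category.assoc, hγ, ← Category.assoc e₂, ← this, Category.assoc]
  refine (nonempty_iso_of_same_kernel f₁ f₂ fun {W} x => ?_ : Nonempty (subquot _ _ h₁ ≅ _))
  rw [comp_toSubquot_eq_zero_iff, show x ≫ f₁ = (x ≫ (K.filH p n).factorThru c hc) ≫ qπ _ _ h₁ from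
    (Category.assoc _ _ _).symm, comp_qπ_eq_zero_iff, Category.assoc, Subobject.factorThru_arrow,
    BBot_factors_iff K p n (n - 1) (by omega)]
  have hx : (x ≫ V.arrow) ≫ K.obj.d n (n + 1) = 0 := by rw [Category.assoc, hVd, comp_zero]
  have hxc : x ≫ c = K.obj.liftCycles (x ≫ V.arrow) (n + 1) (CochainComplex.next ℤ n) hx ≫
      K.obj.homologyπ n := by
    simp only [c, HomologicalComplex.comp_liftCycles_assoc]
  have hxV : (K.filX p n).Factors (x ≫ V.arrow) :=
    ((SubElem.inf_factors_iff _).1 (Subobject.factors_comp_arrow x)).1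
  rw [hxc]
  constructor
  · intro h
    obtain ⟨W₁, e₁, he₁, z, hz, hzp, eq⟩ := (filH_factors_iff K (p + 1) n _).1 h
    rw [HomologicalComplex.comp_liftCycles_assoc,
      HomologicalComplex.liftCycles_comp_homologyπ_eq_iff_up_to_refinements K.obj (n - 1) n
        (n + 1) (CochainComplex.prev ℤ n) (CochainComplex.next ℤ n)] at eq
    obtain ⟨W₂, e₂, he₂, w, ew⟩ := eq
    refine ⟨W₂, e₂ ≫ e₁, epi_comp _ _, w, e₂ ≫ z, ?_, SubElem.comp_factors e₂ hzp, ?_⟩
    · rw [show w ≫ K.obj.d (n - 1) n = e₂ ≫ e₁ ≫ x ≫ V.arrow - e₂ ≫ z from by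
        rw [ew, add_sub_cancel_left]]
      exact SubElem.factors_sub (SubElem.comp_factors e₂ (SubElem.comp_factors e₁ hxV))
        (SubElem.comp_factors e₂ (filX_mono K (Int.le_add_one le_rfl) hzp))
    · rw [Category.assoc, ew, add_comm]
  · rintro ⟨W₁, e₁, he₁, w, b, -, hb, eq⟩
    have hb' : b ≫ K.obj.d n (n + 1) = 0 := by
      have := congrArg (· ≫ K.obj.d n (n + 1)) eq
      simp only [Category.assoc, Preadditive.add_comp, hVd, comp_zero,
        HomologicalComplex.d_comp_d, zero_add] at this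
      exact this.symm
    refine (filH_factors_iff K (p + 1) n _).2 ⟨W₁, e₁, he₁, b, hb', hb, ?_⟩
    rw [HomologicalComplex.comp_liftCycles_assoc,
      HomologicalComplex.liftCycles_comp_homologyπ_eq_iff_up_to_refinements K.obj (n - 1) n
        (n + 1) (CochainComplex.prev ℤ n) (CochainComplex.next ℤ n)]
    exact ⟨W₁, 𝟙 _, inferInstance, w, by rw [Category.id_comp, Category.id_comp, eq, add_comm]⟩

variable (r : ℕ) (p n : ℤ)

/-- The projection `F^p ∩ d⁻¹ F^{p+r} → E_r^{p}`. -/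
noncomputable def toE : (U K (p + r) p n : A) ⟶ K.E r p n :=
  toSubquot _ _ _ (U_le_ZSub K r p n) (K.BSub_le_ZSub r p n)

instance : Epi (toE K r p n) :=
  epi_toSubquot _ _ (sup_le_sup_left (filX_succ_le_BSub K r p n) _)

theorem d_factors_U : (U K (p + r + r) (p + r) (n + 1)).Factors
    ((U K (p + r) p n).arrow ≫ K.obj.d n (n + 1)) := by
  rw [U_factors_iff]
  refine ⟨((U_factors_iff K _ _ _ _).1 (SubElem.factors_arrow _)).2, ?_⟩
  rw [Category.assoc, HomologicalComplex.d_comp_d, comp_zero]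
  exact Subobject.factors_zero

theorem comp_toE_eq_zero_iff {W : A} (x : W ⟶ (U K (p + r) p n : A)) :
    x ≫ toE K r p n = 0 ↔ (K.BSub r p n).Factors (x ≫ (U K (p + r) p n).arrow) :=
  comp_toSubquot_eq_zero_iff _ _ x

/-- `x ↦ dx` from `F^p ∩ d⁻¹ F^{p+r}` to `E_r^{p+r}`. -/
noncomputable def dAux : (U K (p + r) p n : A) ⟶ K.E r (p + r) (n + 1) :=
  (U K (p + r + r) (p + r) (n + 1)).factorThru _ (d_factors_U K r p n) ≫ toE K r (p + r) (n + 1)

theorem comp_dAux_eq_zero_iff {W : A} (x : W ⟶ (U K (p + r) p n : A)) :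
    x ≫ dAux K r p n = 0 ↔ (K.BSub r (p + r) (n + 1)).Factors
      (x ≫ (U K (p + r) p n).arrow ≫ K.obj.d n (n + 1)) := by
  rw [dAux, ← Category.assoc, comp_toE_eq_zero_iff, Category.assoc,
    Subobject.factorThru_arrow]

theorem kernel_toE_comp_dAux : kernel.ι (toE K r p n) ≫ dAux K r p n = 0 := by
  rw [comp_dAux_eq_zero_iff]
  have hU := (U_factors_iff K _ _ _ _).1
    (Subobject.factors_comp_arrow (kernel.ι (toE K r p n)) :
      (U K (p + r) p n).Factors (kernel.ι (toE K r p n) ≫ (U K (p + r) p n).arrow))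
  obtain ⟨W₁, e₁, he₁, w, b, -, -, hb, eq⟩ := (BSub_factors_iff K r p n (n - 1) (p - r + 1)
    (by omega) (by omega) _).1 ((comp_toE_eq_zero_iff K r p n _).1 (kernel.condition (toE K r p n)))
  refine SubElem.factors_of_epi_comp e₁ _ ((BSub_factors_iff K r (p + r) (n + 1) n (p + 1) rfl
    (by omega) _).2 ⟨W₁, 𝟙 _, inferInstance, b, 0, hb, ?_, Subobject.factors_zero, ?_⟩)
  · have : b ≫ K.obj.d n (n + 1) = e₁ ≫ ((kernel.ι (toE K r p n) ≫ (U K (p + r) p n).arrow) ≫
        K.obj.d n (n + 1)) := by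
      rw [← Category.assoc e₁, eq]; simp
    rw [this]
    exact SubElem.comp_factors e₁ hU.2
  · rw [Category.id_comp, ← Category.assoc _ (U K (p + r) p n).arrow, ← Category.assoc e₁, eq]
    simp

/-- The differential `E_r^{p} → E_r^{p+r}`. -/
noncomputable def dE : K.E r p n ⟶ K.E r (p + r) (n + 1) :=
  Abelian.epiDesc (toE K r p n) (dAux K r p n) (kernel_toE_comp_dAux K r p n)

theorem toE_dE : toE K r p n ≫ dE K r p n = dAux K r p n := Abelian.comp_epiDesc _ _ _

theorem U_succ_le : U K (p + r + 1) p n ≤ U K (p + r) p n :=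
  inf_le_inf_left _ ((Subobject.pullback _).map (homOfLE (filX_le K (by omega) _))).le

/-- `F^p ∩ d⁻¹F^{p+r+1} → E_r^p`, whose image is the kernel of `dE`. -/
noncomputable def toKer : (U K (p + r + 1) p n : A) ⟶ K.E r p n :=
  Subobject.ofLE _ _ (U_succ_le K r p n) ≫ toE K r p n

theorem toKer_dE : toKer K r p n ≫ dE K r p n = 0 := by
  rw [toKer, Category.assoc, toE_dE, comp_dAux_eq_zero_iff, ← Category.assoc,
    Subobject.ofLE_arrow]
  exact Subobject.factors_of_le _ (filX_succ_le_BSub K r (p + r) (n + 1))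
    ((U_factors_iff K _ _ _ _).1 (SubElem.factors_arrow _)).2

theorem toKer_exact : (ShortComplex.mk _ _ (toKer_dE K r p n)).Exact := by
  rw [ShortComplex.exact_iff_exact_up_to_refinements]
  intro W y hy
  change W ⟶ K.E r p n at y
  change y ≫ dE K r p n = 0 at hy
  obtain ⟨W₁, e₁, he₁, x, hx⟩ := surjective_up_to_refinements_of_epi (toE K r p n) y
  have h0 : x ≫ dAux K r p n = 0 := by
    rw [← toE_dE, ← Category.assoc, ← hx, Category.assoc, hy, comp_zero]
  obtain ⟨W₂, e₂, he₂, w, b, hw, hdw, hb, eq⟩ :=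
    (BSub_factors_iff K r (p + r) (n + 1) n (p + 1) rfl (by omega) _).1
      ((comp_dAux_eq_zero_iff K r p n x).1 h0)
  have hxU := (U_factors_iff K _ _ _ _).1
    (Subobject.factors_comp_arrow x : (U K (p + r) p n).Factors (x ≫ (U K (p + r) p n).arrow))
  obtain ⟨t, ht⟩ := (SubElem.factors_iff_exists _).1 (show (U K (p + r + 1) p n).Factors
      (e₂ ≫ x ≫ (U K (p + r) p n).arrow - w) from (U_factors_iff K _ _ _ _).2
    ⟨SubElem.factors_sub (SubElem.comp_factors e₂ hxU.1) (filX_mono K (Int.le_add_one le_rfl) hw),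
      by simpa [Preadditive.sub_comp, eq] using hb⟩)
  refine ⟨W₂, e₂ ≫ e₁, epi_comp _ _, t, ?_⟩
  change (e₂ ≫ e₁) ≫ y = t ≫ toKer K r p n
  rw [Category.assoc, hx, toKer, ← Category.assoc, ← Category.assoc, ← sub_eq_zero,
    ← Preadditive.sub_comp, comp_toE_eq_zero_iff, Preadditive.sub_comp, Category.assoc,
    Category.assoc, Subobject.ofLE_arrow, ht, sub_sub_cancel]
  exact Subobject.factors_of_le _ (filX_succ_le_BSub K r p n) hw

/-- `F^p ∩ d⁻¹F^{p+r+1} → E_{r+1}^p`. -/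
noncomputable def toNext : (U K (p + r + 1) p n : A) ⟶ K.E (r + 1) p n :=
  toSubquot _ _ _ (le_sup_of_le_left (by rw [U, show p + (r : ℤ) + 1 = p + ((r + 1 : ℕ) : ℤ) by omega]))
    (K.BSub_le_ZSub (r + 1) p n)

instance : Epi (toNext K r p n) := by
  refine epi_toSubquot _ _ ?_
  rw [ZSub_eq, show p + ((r + 1 : ℕ) : ℤ) = p + (r : ℤ) + 1 by omega]
  exact sup_le_sup_left (filX_succ_le_BSub K (r + 1) p n) _

theorem comp_toNext_eq_zero_iff {W : A} (x : W ⟶ (U K (p + r + 1) p n : A)) :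
    x ≫ toNext K r p n = 0 ↔ (K.BSub (r + 1) p n).Factors (x ≫ (U K (p + r + 1) p n).arrow) :=
  comp_toSubquot_eq_zero_iff _ _ x

theorem kernel_toKer_comp_toNext : kernel.ι (toKer K r p n) ≫ toNext K r p n = 0 := by
  have h : kernel.ι (toKer K r p n) ≫ toKer K r p n = 0 := kernel.condition _
  rw [comp_toNext_eq_zero_iff]
  rw [toKer, ← Category.assoc, comp_toE_eq_zero_iff, Category.assoc,
    Subobject.ofLE_arrow] at h
  obtain ⟨W₁, e₁, he₁, w, b, hw, hdw, hb, eq⟩ :=
    (BSub_factors_iff K r p n (n - 1) (p - r + 1) (by omega) (by omega) _).1 h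
  exact SubElem.factors_of_epi_comp e₁ _ (eq ▸ (BSub_factors_iff K (r + 1) p n (n - 1) (p - r)
    (by omega) (by omega) _).2 ⟨W₁, 𝟙 _, inferInstance, w, b,
      filX_mono K (Int.le_add_one le_rfl) hw, hdw, hb, Category.id_comp _⟩)

/-- The map from the kernel of `dE` onto the next term. -/
noncomputable def kerToNext : kernel (dE K r p n) ⟶ K.E (r + 1) p n :=
  have : Epi (kernel.lift _ _ (toKer_dE K r p n)) := (toKer_exact K r p n).epi_kernelLift
  Abelian.epiDesc (kernel.lift _ _ (toKer_dE K r p n)) (toNext K r p n) (by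
    have : kernel.ι (kernel.lift _ _ (toKer_dE K r p n)) ≫ toKer K r p n = 0 := by
      have h := kernel.condition (kernel.lift (dE K r p n) _ (toKer_dE K r p n)) =≫
        kernel.ι (dE K r p n)
      rwa [zero_comp, Category.assoc, kernel.lift_ι] at h
    rw [← kernel.lift_ι _ _ this, Category.assoc, kernel_toKer_comp_toNext, comp_zero])

theorem lift_kerToNext :
    kernel.lift _ _ (toKer_dE K r p n) ≫ kerToNext K r p n = toNext K r p n := by
  have : Epi (kernel.lift _ _ (toKer_dE K r p n)) := (toKer_exact K r p n).epi_kernelLift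
  unfold kerToNext
  exact Abelian.comp_epiDesc _ _ _

theorem epi_kerToNext : Epi (kerToNext K r p n) :=
  epi_of_epi_fac (lift_kerToNext K r p n)

variable (p' n' : ℤ)

theorem dE_prev_comp (hp : p' + r = p) (hn : n' + 1 = n) :
    ∃ δ : K.E r p' n' ⟶ kernel (dE K r p n), δ ≫ kerToNext K r p n = 0 ∧
      ∀ {W : A} (y : W ⟶ kernel (dE K r p n)), y ≫ kerToNext K r p n = 0 →
        ∃ (W' : A) (e : W' ⟶ W) (_ : Epi e) (x : W' ⟶ K.E r p' n'), e ≫ y = x ≫ δ := by
  subst hp hn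
  have hlift : (U K (p' + r + r + 1) (p' + r) (n' + 1)).Factors
      ((U K (p' + r) p' n').arrow ≫ K.obj.d n' (n' + 1)) := by
    rw [U_factors_iff]
    refine ⟨((U_factors_iff K _ _ _ _).1 (SubElem.factors_arrow _)).2, ?_⟩
    rw [Category.assoc, HomologicalComplex.d_comp_d, comp_zero]
    exact Subobject.factors_zero
  let l := (U K (p' + r + r + 1) (p' + r) (n' + 1)).factorThru _ hlift
  have hl : l ≫ toKer K r (p' + r) (n' + 1) = dAux K r p' n' := by
    rw [toKer, ← Category.assoc, dAux]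
    congr 1
    rw [← cancel_mono (Subobject.arrow _)]
    simp [l]
  have hdd : dE K r p' n' ≫ dE K r (p' + r) (n' + 1) = 0 := by
    rw [← cancel_epi (toE K r p' n'), comp_zero, ← Category.assoc, toE_dE, ← hl, Category.assoc,
      toKer_dE, comp_zero]
  let δ := kernel.lift _ _ hdd
  have hδ : toE K r p' n' ≫ δ = l ≫ kernel.lift _ _ (toKer_dE K r (p' + r) (n' + 1)) := by
    rw [← cancel_mono (kernel.ι _), Category.assoc, Category.assoc, kernel.lift_ι, kernel.lift_ι,
      toE_dE, hl]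
  refine ⟨δ, ?_, fun {W} y hy => ?_⟩
  · rw [← cancel_epi (toE K r p' n'), comp_zero, ← Category.assoc, hδ, Category.assoc,
      lift_kerToNext, comp_toNext_eq_zero_iff]
    refine (BSub_factors_iff K (r + 1) (p' + r) (n' + 1) n' p' rfl (by omega) _).2
      ⟨_, 𝟙 _, inferInstance, (U K (p' + r) p' n').arrow, 0,
        ((U_factors_iff K _ _ _ _).1 (SubElem.factors_arrow _)).1,
        ((U_factors_iff K _ _ _ _).1 (SubElem.factors_arrow _)).2, Subobject.factors_zero, ?_⟩
    simp [l]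
  · have : Epi (kernel.lift _ _ (toKer_dE K r (p' + r) (n' + 1))) :=
      (toKer_exact K r (p' + r) (n' + 1)).epi_kernelLift
    obtain ⟨W₁, e₁, he₁, x, hx⟩ := surjective_up_to_refinements_of_epi
      (kernel.lift _ _ (toKer_dE K r (p' + r) (n' + 1))) y
    have hx0 : x ≫ toNext K r (p' + r) (n' + 1) = 0 := by
      rw [← lift_kerToNext, ← Category.assoc, ← hx, Category.assoc, hy, comp_zero]
    rw [comp_toNext_eq_zero_iff] at hx0
    obtain ⟨W₂, e₂, he₂, w, b, hw, hdw, hb, eq⟩ :=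
      (BSub_factors_iff K (r + 1) (p' + r) (n' + 1) n' p' rfl (by omega) _).1 hx0
    obtain ⟨u, hu⟩ := (SubElem.factors_iff_exists _).1
      (show (U K (p' + r) p' n').Factors w from (U_factors_iff K _ _ _ _).2 ⟨hw, hdw⟩)
    refine ⟨W₂, e₂ ≫ e₁, epi_comp _ _, u ≫ toE K r p' n', ?_⟩
    rw [Category.assoc, hx, Category.assoc, hδ, ← cancel_mono (kernel.ι _)]
    simp only [Category.assoc, kernel.lift_ι]
    rw [hl, dAux, toKer, ← sub_eq_zero, ← Category.assoc x, ← Category.assoc e₂,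
      ← Category.assoc u, ← Preadditive.sub_comp, comp_toE_eq_zero_iff]
    refine Subobject.factors_of_le _ (filX_succ_le_BSub K r (p' + r) (n' + 1)) ?_
    convert hb using 1
    simp [Preadditive.sub_comp, eq, reassoc_of% hu]

end

end Groth.Agent.SpSeqLib
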