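import Mathlib.Algebra.Category.ModuleCat.ChangeOfRings
import Mathlib.Algebra.Category.ModuleCat.Abelian
import Mathlib.Algebra.Homology.ShortComplex.ModuleCat
import Mathlib.Algebra.Homology.ShortComplex.ExactFunctor
import Mathlib.Algebra.Polynomial.Basic
import Mathlib.LinearAlgebra.Trace
import Mathlib.LinearAlgebra.Eigenspace.Basic
import Mathlib.LinearAlgebra.FiniteDimensional.Lemmas
import Mathlib.Analysis.Complex.Basic
import Mathlib.RingTheory.Finiteness.Basic

/-!
Traces, dimensions and eigenvalue bounds of `ℂ[X]`-modules seen as complex vector spaces with the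
endomorphism `X`, along short exact sequences.
-/

namespace Groth.Agent.SpSeqLib.Tr

open CategoryTheory CategoryTheory.Limits
open scoped Polynomial

universe u

section Linear

variable {K N V Q : Type*} [Field K] [AddCommGroup N] [Module K N] [AddCommGroup V] [Module K V]
  [AddCommGroup Q] [Module K Q] (i : N →ₗ[K] V) (q : V →ₗ[K] Q)
  (a : N →ₗ[K] N) (b : V →ₗ[K] V) (c : Q →ₗ[K] Q)

theorem trace_exact [FiniteDimensional K V] (hi : Function.Injective i)
    (hq : Function.Surjective q) (hex : Function.Exact i q) (h₁ : b ∘ₗ i = i ∘ₗ a)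
    (h₂ : c ∘ₗ q = q ∘ₗ b) :
    LinearMap.trace K V b = LinearMap.trace K N a + LinearMap.trace K Q c := by
  have : FiniteDimensional K N := FiniteDimensional.of_injective i hi
  have : FiniteDimensional K Q := Module.Finite.of_surjective q hq
  obtain ⟨p₀, hp₀⟩ := i.exists_leftInverse_of_injective (LinearMap.ker_eq_bot.2 hi)
  obtain ⟨s, hs⟩ := q.exists_rightInverse_of_surjective (LinearMap.range_eq_top.2 hq)
  let p := p₀ ∘ₗ (LinearMap.id - s ∘ₗ q)
  have hqi : q ∘ₗ i = 0 := LinearMap.ext fun x => hex.apply_apply_eq_zero x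
  have hpi : p ∘ₗ i = LinearMap.id := by
    simp only [p, LinearMap.comp_assoc, LinearMap.sub_comp, hqi, LinearMap.comp_zero, sub_zero,
      LinearMap.id_comp, hp₀]
  have hid : i ∘ₗ p + s ∘ₗ q = LinearMap.id := by
    ext x
    have hsx : ∀ y, q (s y) = y := fun y => DFunLike.congr_fun hs y
    obtain ⟨y, hy⟩ := (hex (x - s (q x))).1 (by simp [hsx])
    have hy' : p₀ (i y) = y := DFunLike.congr_fun hp₀ y
    simp only [p, LinearMap.add_apply, LinearMap.comp_apply, LinearMap.sub_apply,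
      LinearMap.id_apply, ← hy, hy']
    rw [hy, sub_add_cancel]
  calc LinearMap.trace K V b = LinearMap.trace K V ((b ∘ₗ i) ∘ₗ p + (b ∘ₗ s) ∘ₗ q) := by
        rw [LinearMap.comp_assoc, LinearMap.comp_assoc, ← LinearMap.comp_add, hid,
          LinearMap.comp_id]
    _ = LinearMap.trace K N (p ∘ₗ b ∘ₗ i) + LinearMap.trace K Q (q ∘ₗ b ∘ₗ s) := by
        rw [map_add, LinearMap.trace_comp_comm' p (b ∘ₗ i), LinearMap.trace_comp_comm' q (b ∘ₗ s)]
    _ = _ := by
        rw [h₁, ← LinearMap.comp_assoc, hpi, LinearMap.id_comp, ← LinearMap.comp_assoc, ← h₂,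
          LinearMap.comp_assoc, hs, LinearMap.comp_id]

theorem hasEigenvalue_sub (hi : Function.Injective i) (h₁ : b ∘ₗ i = i ∘ₗ a) {μ : K}
    (h : Module.End.HasEigenvalue a μ) : Module.End.HasEigenvalue b μ := by
  obtain ⟨v, hv⟩ := h.exists_hasEigenvector
  refine Module.End.hasEigenvalue_of_hasEigenvector (x := i v)
    ⟨Module.End.mem_eigenspace_iff.2 ?_, fun h0 => hv.2 (hi (by rw [h0, map_zero]))⟩
  have := DFunLike.congr_fun h₁ v
  simp only [LinearMap.comp_apply] at this
  rw [this, hv.apply_eq_smul, map_smul]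

theorem hasEigenvalue_quot [FiniteDimensional K V] (hq : Function.Surjective q)
    (h₂ : c ∘ₗ q = q ∘ₗ b) {μ : K}
    (h : Module.End.HasEigenvalue c μ) : Module.End.HasEigenvalue b μ := by
  have : FiniteDimensional K Q := Module.Finite.of_surjective q hq
  by_contra hb
  let b' : V →ₗ[K] V := b - μ • LinearMap.id
  let c' : Q →ₗ[K] Q := c - μ • LinearMap.id
  have hbi : Function.Injective b' := by
    rw [← LinearMap.ker_eq_bot, Submodule.eq_bot_iff]
    intro x hx
    by_contra hx0
    exact hb (Module.End.hasEigenvalue_of_hasEigenvector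
      ⟨Module.End.mem_eigenspace_iff.2 (sub_eq_zero.1 hx), hx0⟩)
  have hcs : Function.Surjective c' := by
    intro y
    obtain ⟨x, rfl⟩ := hq y
    obtain ⟨z, rfl⟩ := LinearMap.injective_iff_surjective.1 hbi x
    refine ⟨q z, ?_⟩
    have := DFunLike.congr_fun h₂ z
    simp only [LinearMap.comp_apply] at this
    simp [b', c', this]
  obtain ⟨v, hv⟩ := h.exists_hasEigenvector
  exact hv.2 (LinearMap.injective_iff_surjective.2 hcs
    ((show c' v = 0 by simp [c', hv.apply_eq_smul]).trans (map_zero c').symm))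

end Linear

/-- `ℂ[X]`-modules as complex vector spaces. -/
noncomputable abbrev RC : ModuleCat.{u} ℂ[X] ⥤ ModuleCat.{u} ℂ :=
  ModuleCat.restrictScalars (algebraMap ℂ ℂ[X])

/-- Multiplication by `X`. -/
noncomputable abbrev phi (M : ModuleCat.{u} ℂ[X]) : RC.obj M →ₗ[ℂ] RC.obj M :=
  (RC.map ((Polynomial.X : ℂ[X]) • 𝟙 M)).hom

/-- Its trace. -/
noncomputable abbrev tr (M : ModuleCat.{u} ℂ[X]) : ℂ := LinearMap.trace ℂ _ (phi M)

/-- Finite dimension, at most `D`, all eigenvalues of `X` of modulus at most `A`. -/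
structure Bd (M : ModuleCat.{u} ℂ[X]) (A : ℝ) (D : ℕ) : Prop where
  fin : Module.Finite ℂ (RC.obj M)
  dim : Module.finrank ℂ (RC.obj M) ≤ D
  eig : ∀ μ : ℂ, Module.End.HasEigenvalue (phi M) μ → ‖μ‖ ≤ A

theorem phi_comm {M N : ModuleCat.{u} ℂ[X]} (f : M ⟶ N) :
    phi N ∘ₗ (RC.map f).hom = (RC.map f).hom ∘ₗ phi M := by
  change (RC.map f ≫ RC.map _).hom = (RC.map _ ≫ RC.map f).hom
  rw [← RC.map_comp, ← RC.map_comp, Linear.comp_smul, Linear.smul_comp, Category.comp_id,
    Category.id_comp]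

theorem subsingleton_of_isZero {M : ModuleCat.{u} ℂ[X]} (h : IsZero M) :
    Subsingleton (RC.obj M) :=
  (ModuleCat.isZero_iff_subsingleton (M := M)).1 h

theorem tr_of_isZero {M : ModuleCat.{u} ℂ[X]} (h : IsZero M) : tr M = 0 := by
  have := subsingleton_of_isZero h
  rw [tr, Subsingleton.elim (phi M) 0, map_zero]

theorem Bd.of_isZero {M : ModuleCat.{u} ℂ[X]} (h : IsZero M) (A : ℝ) (D : ℕ) : Bd M A D := by
  have := subsingleton_of_isZero h
  refine ⟨inferInstance, ?_, fun μ hμ => ?_⟩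
  · rw [Module.finrank_zero_of_subsingleton]; exact Nat.zero_le _
  · obtain ⟨v, hv⟩ := hμ.exists_hasEigenvector
    exact absurd (Subsingleton.elim v 0) hv.2

variable {S : ShortComplex (ModuleCat.{u} ℂ[X])} (hS : S.ShortExact)

include hS

theorem inj_f : Function.Injective (RC.map S.f).hom :=
  (hS.map_of_exact RC).moduleCat_injective_f

theorem surj_g : Function.Surjective (RC.map S.g).hom :=
  (hS.map_of_exact RC).moduleCat_surjective_g

theorem exact_fg : Function.Exact (RC.map S.f).hom (RC.map S.g).hom :=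
  (ShortComplex.ShortExact.moduleCat_exact_iff_function_exact (S.map RC)).1 (hS.map_of_exact RC).exact

theorem tr_add (h : Module.Finite ℂ (RC.obj S.X₂)) : tr S.X₂ = tr S.X₁ + tr S.X₃ :=
  trace_exact _ _ _ _ _ (inj_f hS) (surj_g hS) (exact_fg hS) (phi_comm _) (phi_comm _)

theorem Bd.left {A : ℝ} {D : ℕ} (h : Bd S.X₂ A D) : Bd S.X₁ A D := by
  have := h.fin
  exact ⟨FiniteDimensional.of_injective _ (inj_f hS),
    (LinearMap.finrank_le_finrank_of_injective (inj_f hS)).trans h.dim,
    fun μ hμ => h.eig μ (hasEigenvalue_sub _ _ _ (inj_f hS) (phi_comm _) hμ)⟩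

theorem Bd.right {A : ℝ} {D : ℕ} (h : Bd S.X₂ A D) : Bd S.X₃ A D := by
  have := h.fin
  exact ⟨Module.Finite.of_surjective _ (surj_g hS),
    (LinearMap.finrank_le_finrank_of_surjective (surj_g hS)).trans h.dim,
    fun μ hμ => h.eig μ (hasEigenvalue_quot _ _ _ (surj_g hS) (phi_comm _) hμ)⟩

end Groth.Agent.SpSeqLib.Tr
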