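import Groth.Agent.SpSeqLib.TraceAdd
import Groth.Agent.SpSeqLib.Basic
import Mathlib.Algebra.Homology.ShortComplex.Abelian

/-!
Passing from one page of a spectral sequence of `ℂ[X]`-modules to the next: bounds and traces.
-/

namespace Groth.Agent.SpSeqLib.Tr

open CategoryTheory CategoryTheory.Limits
open scoped Polynomial ZeroObject

universe u

variable {A : ℝ} {D : ℕ}

theorem shortExact_of_iso {M N : ModuleCat.{u} ℂ[X]} (e : M ≅ N) :
    (ShortComplex.mk e.hom (0 : N ⟶ 0) comp_zero).ShortExact where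
  exact := (ShortComplex.exact_iff_epi _ rfl).2 inferInstance
  mono_f := inferInstance
  epi_g := ⟨fun _ _ _ => (isZero_zero _).eq_of_src _ _⟩

theorem Bd.of_iso {M N : ModuleCat.{u} ℂ[X]} (e : M ≅ N) (h : Bd N A D) : Bd M A D :=
  Bd.left (shortExact_of_iso e) h

theorem tr_iso {M N : ModuleCat.{u} ℂ[X]} (e : M ≅ N) (h : Module.Finite ℂ (RC.obj N)) :
    tr N = tr M := by
  rw [tr_add (shortExact_of_iso e) h]
  simp only [tr_of_isZero (isZero_zero _), add_zero]

variable (S : ShortComplex (ModuleCat.{u} ℂ[X]))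

/-- Middle term, homology and the two images of a short complex. -/
theorem homology_facts (h : Bd S.X₂ A D) :
    Bd S.homology A D ∧ Bd (image S.f) A D ∧
      tr S.X₂ = tr S.homology + tr (image S.f) + tr (image S.g) := by
  let d := S.leftHomologyData
  have hgi : d.i ≫ factorThruImage S.g = 0 := by
    rw [← cancel_mono (image.ι S.g), Category.assoc, image.fac, d.wi, zero_comp]
  let S₁ := ShortComplex.mk d.i (factorThruImage S.g) hgi
  let φ₁ : S₁ ⟶ ShortComplex.mk d.i S.g d.wi :=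
    { τ₁ := 𝟙 _, τ₂ := 𝟙 _, τ₃ := image.ι S.g }
  have hS₁ : S₁.ShortExact :=
    { exact := (ShortComplex.exact_iff_of_epi_of_isIso_of_mono φ₁).2
        (ShortComplex.exact_of_f_is_kernel _ d.hi)
      mono_f := inferInstanceAs (Mono d.i)
      epi_g := inferInstanceAs (Epi (factorThruImage S.g)) }
  have hfg : image.ι S.f ≫ S.g = 0 := by
    rw [← cancel_epi (factorThruImage S.f), image.fac_assoc, S.zero, comp_zero]
  let j : image S.f ⟶ d.K := d.liftK (image.ι S.f) hfg
  have hj : factorThruImage S.f ≫ j = d.f' := by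
    rw [← cancel_mono d.i, Category.assoc, d.liftK_i, image.fac, d.f'_i]
  have hjπ : j ≫ d.π = 0 := by
    rw [← cancel_epi (factorThruImage S.f), reassoc_of% hj, d.f'_π, comp_zero]
  let S₂ := ShortComplex.mk j d.π hjπ
  let φ₂ : ShortComplex.mk d.f' d.π d.wπ ⟶ S₂ :=
    { τ₁ := factorThruImage S.f, τ₂ := 𝟙 _, τ₃ := 𝟙 _, comm₁₂ := by simp [S₂, hj] }
  have hS₂ : S₂.ShortExact :=
    { exact := (ShortComplex.exact_iff_of_epi_of_isIso_of_mono φ₂).1
        (ShortComplex.exact_of_g_is_cokernel _ d.hπ)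
      mono_f := by
        have : Mono (j ≫ d.i) := by rw [d.liftK_i]; infer_instance
        exact mono_of_mono j d.i
      epi_g := inferInstanceAs (Epi d.π) }
  have hK : Bd d.K A D := Bd.left hS₁ h
  have hH : Bd d.H A D := Bd.right hS₂ hK
  refine ⟨Bd.of_iso d.homologyIso hH, Bd.left hS₂ hK, ?_⟩
  rw [tr_add hS₁ h.fin, tr_add hS₂ hK.fin, tr_iso d.homologyIso hH.fin]
  abel

variable (E : E₂CohomologicalSpectralSequence (ModuleCat.{u} ℂ[X])) (r : ℤ) (hr : 2 ≤ r)

/-- The image of the differential of page `r` arriving at `pq`. -/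
noncomputable def bnd (pq : ℤ × ℤ) : ModuleCat.{u} ℂ[X] :=
  image ((E.page r hr).d (pq - (r, 1 - r)) pq)

theorem page_facts (pq : ℤ × ℤ) (h : Bd ((E.page r hr).X pq) A D) :
    Bd ((E.page (r + 1) (Int.le_add_one hr)).X pq) A D ∧ Bd (bnd E r hr pq) A D ∧
      tr ((E.page r hr).X pq) = tr ((E.page (r + 1) (Int.le_add_one hr)).X pq) +
        tr (bnd E r hr pq) + tr (bnd E r hr (pq + (r, 1 - r))) := by
  obtain ⟨hH, hB, ht⟩ := homology_facts ((E.page r hr).sc pq) h
  have e₁ : image ((E.page r hr).sc pq).f = bnd E r hr pq :=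
    congrArg (fun a => image ((E.page r hr).d a pq)) (page_prev r pq)
  have e₂ : image ((E.page r hr).sc pq).g = bnd E r hr (pq + (r, 1 - r)) := by
    change image ((E.page r hr).d pq _) = _
    rw [page_next]
    exact congrArg (fun a => image ((E.page r hr).d a (pq + (r, 1 - r))))
      (add_sub_cancel_right pq ((r, 1 - r) : ℤ × ℤ)).symm
  have e : ((E.page r hr).sc pq).homology ≅ (E.page (r + 1) (Int.le_add_one hr)).X pq :=
    E.iso r (r + 1) pq
  refine ⟨Bd.of_iso e.symm hH, e₁ ▸ hB, ?_⟩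
  rw [← e₁, ← e₂, tr_iso e.symm hH.fin] at *
  exact ht

end Groth.Agent.SpSeqLib.Tr
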